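import Groth.Agent.Coherent.K788.HilbFam
import Groth.Agent.Coherent.K585.Defs

/-!
# Simpson moduli: node HF (finitely many Hilbert polynomials)

* `exists_finset_span`: the submodules of `W k` generated by a subspace of degree `m` have finitely many Hilbert
  functions in degrees `≥ e₀`;
* `hilbFin`: node HF.
-/

set_option autoImplicit false
set_option linter.unusedSectionVars false

universe u

open MvPolynomial

namespace K788.HilbFin

open Groth.Agent Fga.QA0 Fga.QA1 K585.Defs

section Span

variable {k : Type u} [Field k] {σ ι : Type} [Fintype σ] [Finite ι]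

/-- A subspace of a finite dimensional space is spanned by a family of fixed length. -/
theorem exists_family {V : Type*} [AddCommGroup V] [Module k V] (T U : Submodule k V) [Module.Finite k T] (hU : U ≤ T) :
    ∃ v : Fin (Module.finrank k T) → V, Submodule.span k (Set.range v) = U := by
  have hfin : Module.Finite k U := Submodule.finiteDimensional_of_le hU
  have hle : Module.finrank k U ≤ Module.finrank k T := Submodule.finrank_mono hU
  let b := Module.finBasis k U
  refine ⟨fun j => if h : (j : ℕ) < Module.finrank k U then (b ⟨j, h⟩ : V) else 0, ?_⟩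
  apply le_antisymm
  · rw [Submodule.span_le]
    rintro _ ⟨j, rfl⟩
    dsimp only
    split_ifs with h
    · exact (b ⟨j, h⟩).2
    · exact U.zero_mem
  · intro x hx
    have h1 := b.sum_repr ⟨x, hx⟩
    have h2 : x = ∑ i, b.repr ⟨x, hx⟩ i • (b i : V) := by
      conv_lhs => rw [show x = ((⟨x, hx⟩ : U) : V) from rfl, ← h1]
      rw [Submodule.coe_sum]
      rfl
    rw [h2]
    refine Submodule.sum_mem _ fun i _ => Submodule.smul_mem _ _ (Submodule.subset_span ?_)
    exact ⟨⟨i, i.2.trans_le hle⟩, by simp⟩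

variable (k σ ι) in
/-- Submodules generated by a subspace of degree `m`. -/
theorem exists_finset_span (m : ℕ) :
    ∃ (s : Finset (ℤ → ℤ)) (e₀ : ℕ), (∀ Ψ ∈ s, Num (Fintype.card σ) Ψ) ∧
      ∀ U : Submodule k (W σ ι k), U ≤ Wd σ ι k m →
        ∃ Ψ ∈ s, ∀ d : ℕ, e₀ ≤ d → h (Submodule.span (MvPolynomial σ k) (U : Set (W σ ι k))) d = Ψ d := by
  classical
  let b := Module.finBasis k (Wd σ ι k m)
  let N := Module.finrank k (Wd σ ι k m)
  let A := MvPolynomial (Fin N × Fin N) k
  let u : Fin N → W σ ι A := fun j => ∑ i, (X (j, i) : A) • mapW (C : k →+* A) (b i : W σ ι k)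
  have hu : ∀ j, u j ∈ Wd σ ι A m := fun j =>
    Submodule.sum_mem _ fun i _ => Submodule.smul_mem _ _ (mapW_mem_Wd _ (b i).2)
  let K : Submodule (MvPolynomial σ A) (W σ ι A) := Submodule.span _ (Set.range u)
  have hK : IsHom K := isHom_span _ (by rintro _ ⟨j, rfl⟩; exact ⟨m, hu j⟩)
  obtain ⟨s, e₀, hs, hall⟩ := HilbFam.exists_finset hK
  refine ⟨s, e₀, hs, fun U hU => ?_⟩
  obtain ⟨v, hv⟩ := exists_family (Wd σ ι k m) U hU
  have hvU : ∀ j, v j ∈ U := fun j => by rw [← hv]; exact Submodule.subset_span ⟨j, rfl⟩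
  let c : Fin N → Fin N → k := fun j i => b.repr ⟨v j, hU (hvU j)⟩ i
  let φ : A →+* k := (eval fun p : Fin N × Fin N => c p.1 p.2)
  have hφC : φ.comp (C : k →+* A) = RingHom.id k := by
    ext x
    exact eval_C x
  have hφu : ∀ j, mapW φ (u j) = v j := by
    intro j
    have h1 : mapW φ (u j) = ∑ i, c j i • (b i : W σ ι k) := by
      change mapW φ (∑ i, (X (j, i) : A) • mapW (C : k →+* A) (b i : W σ ι k)) = _
      rw [map_sum]
      refine Finset.sum_congr rfl fun i _ => ?_
      rw [mapW_smul', ← mapW_comp, hφC, mapW_id]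
      congr 1
      exact eval_X _
    rw [h1]
    have h2 := congrArg (fun x : Wd σ ι k m => (x : W σ ι k)) (b.sum_repr ⟨v j, hU (hvU j)⟩)
    dsimp only at h2
    rw [Submodule.coe_sum] at h2
    exact h2
  have hbc : bc φ K = Submodule.span (MvPolynomial σ k) (U : Set (W σ ι k)) := by
    apply le_antisymm
    · rw [bc_le_iff]
      intro w hw
      induction hw using Submodule.span_induction with
      | mem x hx =>
        obtain ⟨j, rfl⟩ := hx
        rw [hφu]
        exact Submodule.subset_span (hvU j)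
      | zero => rw [map_zero]; exact Submodule.zero_mem _
      | add x y _ _ hx hy => rw [map_add]; exact Submodule.add_mem _ hx hy
      | smul f x _ hx => rw [mapW_smul]; exact Submodule.smul_mem _ _ hx
    · rw [Submodule.span_le]
      have h1 : U ≤ (bc φ K).restrictScalars k := by
        rw [← hv, Submodule.span_le]
        rintro _ ⟨j, rfl⟩
        change v j ∈ bc φ K
        rw [← hφu]
        exact mapW_mem_bc _ (Submodule.subset_span ⟨j, rfl⟩)
      exact fun x hx => h1 hx
  obtain ⟨Ψ, hΨ, hd⟩ := hall φ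
  exact ⟨Ψ, hΨ, fun d hd' => by rw [← hbc]; exact hd d hd'⟩

end Span

section Main

variable {k : Type u} [Field k] {n a : ℕ}

/-- `V' ⊗ S` -/
noncomputable def VS (V' : Submodule k (Fin a → k)) :
    Submodule (MvPolynomial (Fin (n + 1)) k) (W (Fin (n + 1)) (Fin a) k) where
  carrier := {w | ∀ m, (fun j => coeff m (w j)) ∈ V'}
  add_mem' := by
    rintro u w h1 h2 m
    have h5 : (fun j => coeff m ((u + w) j)) = (fun j => coeff m (u j)) + fun j => coeff m (w j) := by
      funext j; exact coeff_add _ _ _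
    rw [h5]
    exact add_mem (h1 m) (h2 m)
  zero_mem' := by
    intro m
    have h5 : (fun j => coeff m ((0 : W (Fin (n + 1)) (Fin a) k) j)) = 0 := by
      funext j; exact coeff_zero _
    rw [h5]
    exact zero_mem V'
  smul_mem' := by
    classical
    rintro f w h m
    have h5 : (fun j => coeff m ((f • w) j)) =
        ∑ p ∈ Finset.antidiagonal m, coeff p.1 f • fun j => coeff p.2 (w j) := by
      funext j
      rw [Finset.sum_apply]
      change coeff m (f * w j) = _
      rw [coeff_mul]
      rfl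
    rw [h5]
    exact Submodule.sum_mem _ fun p _ => Submodule.smul_mem _ _ (h p.2)

lemma mem_VS {V' : Submodule k (Fin a → k)} {w : W (Fin (n + 1)) (Fin a) k} :
    w ∈ VS V' ↔ ∀ m, (fun j => coeff m (w j)) ∈ V' := Iff.rfl

lemma WV_eq (V' : Submodule k (Fin a → k)) (d : ℕ) : WV (n := n) V' d = pc (VS V') d := by
  ext w
  exact and_comm

lemma isHom_VS (V' : Submodule k (Fin a → k)) : IsHom (VS (n := n) V') := by
  classical
  intro w hw d m
  by_cases hm : m.degree = d
  · have h5 : (fun j => coeff m (comp d w j)) = fun j => coeff m (w j) := by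
      funext j
      rw [comp_apply, coeff_homogeneousComponent, if_pos hm]
    rw [h5]
    exact hw m
  · have h5 : (fun j => coeff m (comp d w j)) = 0 := by
      funext j
      rw [comp_apply, coeff_homogeneousComponent, if_neg hm]
      rfl
    rw [h5]
    exact V'.zero_mem

/-- `V' ⊗ S_{d+1}` is generated by `V' ⊗ S_d`. -/
lemma mem_of_WV {M : Submodule (MvPolynomial (Fin (n + 1)) k) (W (Fin (n + 1)) (Fin a) k)}
    {V' : Submodule k (Fin a → k)} {d : ℕ} (hM : ∀ w ∈ WV (n := n) V' d, w ∈ M)
    {w : W (Fin (n + 1)) (Fin a) k} (hw : w ∈ WV (n := n) V' (d + 1)) : w ∈ M := by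
  classical
  have h1 : w = ∑ m ∈ Finset.univ.biUnion (fun j => (w j).support), fun j => monomial m (coeff m (w j)) := by
    funext j
    rw [Finset.sum_apply]
    conv_lhs => rw [(w j).as_sum]
    apply Finset.sum_subset (Finset.subset_biUnion_of_mem (fun j => (w j).support) (Finset.mem_univ j))
    intro m _ hm
    rw [notMem_support_iff.1 hm, monomial_zero]
  rw [h1]
  refine Submodule.sum_mem _ fun m _ => ?_
  by_cases hm : m.degree = d + 1
  · have h2 : m ≠ 0 := by rintro rfl; simp at hm
    obtain ⟨i, hi⟩ := Finsupp.ne_iff.1 h2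
    rw [Finsupp.coe_zero, Pi.zero_apply] at hi
    have h3 : Finsupp.single i 1 + (m - Finsupp.single i 1) = m :=
      add_tsub_cancel_of_le (Finsupp.single_le_iff.2 (by omega))
    have h4 : (fun j => monomial m (coeff m (w j))) =
        (X i : MvPolynomial (Fin (n + 1)) k) •
          (fun j => monomial (m - Finsupp.single i 1) (coeff m (w j)) : W (Fin (n + 1)) (Fin a) k) := by
      funext j
      change _ = X i * monomial (m - Finsupp.single i 1) (coeff m (w j))
      rw [X, monomial_mul, one_mul, h3]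
    rw [h4]
    refine Submodule.smul_mem _ _ (hM _ ⟨?_, ?_⟩)
    · intro j
      apply isHomogeneous_monomial
      have := congrArg Finsupp.degree h3
      rw [map_add, Finsupp.degree_single] at this
      omega
    · intro m'
      by_cases hmm : m - Finsupp.single i 1 = m'
      · have h5 : (fun j => coeff m' ((fun j => monomial (m - Finsupp.single i 1) (coeff m (w j)) :
            W (Fin (n + 1)) (Fin a) k) j)) = fun j => coeff m (w j) := by
          funext j
          rw [coeff_monomial, if_pos hmm]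
        rw [h5]
        exact hw.2 m
      · have h5 : (fun j => coeff m' ((fun j => monomial (m - Finsupp.single i 1) (coeff m (w j)) :
            W (Fin (n + 1)) (Fin a) k) j)) = 0 := by
          funext j
          rw [coeff_monomial, if_neg hmm]
          rfl
        rw [h5]
        exact V'.zero_mem
  · have h2 : (fun j => monomial m (coeff m (w j))) = (0 : W (Fin (n + 1)) (Fin a) k) := by
      funext j
      have h3 : coeff m (w j) = 0 := by
        by_contra h0
        apply hm
        have := hw.1 j h0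
        rw [← this, Finsupp.degree_eq_weight_one]
        rfl
      rw [h3, monomial_zero]
      rfl
    rw [h2]
    exact M.zero_mem

/-- NODE HF. -/
theorem hilbFin (k : Type u) [Field k] (n a : ℕ) {Φ : ℤ → ℤ} (hΦ : Num (n + 1) Φ) :
    ∃ (s : Finset (ℤ → ℤ)) (e₀ : ℕ), (∀ Ψ ∈ s, Num (n + 1) Ψ) ∧
      ∀ L : Submodule (MvPolynomial (Fin (n + 1)) k) (W (Fin (n + 1)) (Fin a) k), IsHom L → IsSat L →
        (∃ D : ℕ, ∀ d : ℕ, D ≤ d → h L d = Φ d) →
        ∀ V' : Submodule k (Fin a → k), ∃ Ψ ∈ s, ∀ d : ℕ, e₀ ≤ d →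
          (Module.finrank k (WV (n := n) V' d) : ℤ) -
            Module.finrank k (WV (n := n) V' d ⊓ pc L d : Submodule k (W (Fin (n + 1)) (Fin a) k)) = Ψ d := by
  classical
  have hc : Fintype.card (Fin (n + 1)) = n + 1 := Fintype.card_fin _
  obtain ⟨s, e₀, hs, hall⟩ := exists_finset_span k (Fin (n + 1)) (Fin a) (bd (n + 1) Φ)
  rw [hc] at hs
  refine ⟨s.image fun Ψ d => Φ d - Ψ d, max e₀ (bd (n + 1) Φ), ?_, fun L hL hsat hev V' => ?_⟩
  · intro Ψ hΨ
    obtain ⟨Ψ', h1, rfl⟩ := Finset.mem_image.1 hΨ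
    exact hΦ.sub (hs Ψ' h1)
  have hbound : ∀ d, bd (n + 1) Φ ≤ d → h L d = Φ d ∧ Gen L d ∧ H1 L d := fun d hd =>
    Fga.QA2.field_bound hL hsat (by rw [hc]; exact hΦ) hev (by rw [hc]; exact hd)
  let U : Submodule k (W (Fin (n + 1)) (Fin a) k) := WV (n := n) V' (bd (n + 1) Φ) ⊔ pc L (bd (n + 1) Φ)
  have hU : U ≤ Wd (Fin (n + 1)) (Fin a) k (bd (n + 1) Φ) := sup_le (fun w hw => hw.1) (pc_le_Wd _ _)
  let M : Submodule (MvPolynomial (Fin (n + 1)) k) (W (Fin (n + 1)) (Fin a) k) := Submodule.span _ (U : Set _)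
  obtain ⟨Ψ, hΨ, hd⟩ := hall U hU
  refine ⟨_, Finset.mem_image_of_mem _ hΨ, fun d hd' => ?_⟩
  have hMle : M ≤ VS V' ⊔ L := by
    rw [Submodule.span_le]
    intro x hx
    obtain ⟨y, hy, z, hz, rfl⟩ := Submodule.mem_sup.1 hx
    rw [WV_eq] at hy
    exact Submodule.add_mem_sup hy.1 hz.1
  have hle : ∀ e, bd (n + 1) Φ ≤ e → (∀ w ∈ WV (n := n) V' e, w ∈ M) ∧ (∀ w ∈ pc L e, w ∈ M) := by
    intro e he
    induction e, he using Nat.le_induction with
    | base =>
      exact ⟨fun w hw => Submodule.subset_span (Submodule.mem_sup_left hw),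
        fun w hw => Submodule.subset_span (Submodule.mem_sup_right hw)⟩
    | succ e he ih =>
      refine ⟨fun w hw => mem_of_WV ih.1 hw, fun w hw => ?_⟩
      obtain ⟨u, hu, rfl⟩ := (hbound e he).2.1 w hw
      exact Submodule.sum_mem _ fun i _ => Submodule.smul_mem _ _ (ih.2 _ (hu i))
  have hdm : bd (n + 1) Φ ≤ d := (le_max_right _ _).trans hd'
  have hpc : pc M d = WV (n := n) V' d ⊔ pc L d := by
    apply le_antisymm
    · intro w hw
      obtain ⟨y, hy, z, hz, hyz⟩ := Submodule.mem_sup.1 (hMle hw.1)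
      have h1 : w = comp d y + comp d z := by
        rw [← map_add, hyz, comp_of_mem hw.2]
      rw [h1, WV_eq]
      exact Submodule.add_mem_sup ((isHom_VS V').comp_mem_pc hy d) (hL.comp_mem_pc hz d)
    · refine sup_le (fun w hw => ⟨(hle d hdm).1 w hw, hw.1⟩) (fun w hw => ⟨(hle d hdm).2 w hw, hw.2⟩)
  have hf1 : Module.Finite k (WV (n := n) V' d) := by rw [WV_eq]; infer_instance
  have h1 := Submodule.finrank_sup_add_finrank_inf_eq (WV (n := n) V' d) (pc L d)
  have h2 := hd d ((le_max_left _ _).trans hd')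
  have h3 := (hbound d hdm).1
  change h M d = Ψ d at h2
  rw [← h2, ← h3]
  unfold h
  rw [hpc]
  omega

end Main

end K788.HilbFin
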