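import Groth.Agent.Fga.QA4Fin
import Groth.Agent.Fga.QA5Trunc
import Groth.Agent.S0389

/-!
# Finitely many Hilbert functions in a family

`A` Noetherian, `K ⊆ W A` a homogeneous submodule.

* `exists_pc_sat`: `sat K` and `K` agree in large degrees;
* `flat_piece`: the graded pieces of a flat `W / K` are flat; `flat_bc`: base change;
* `exists_finset`: there are finitely many numerical functions `Ψ` and a degree `e₀` such that the Hilbert function of
  every fibre `W / φ_*K`, `φ : A → k` (`k` a field), is one of the `Ψ` in degrees `≥ e₀`.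
-/

set_option autoImplicit false
set_option linter.unusedSectionVars false

universe u

open MvPolynomial TensorProduct

namespace K788.HilbFam

open Groth.Agent Fga.QA0 Fga.QA1 Fga.QA4BC Fga.QA5

section

variable {σ ι : Type*} {A : Type*} [CommRing A] [Finite σ] [Finite ι]

/-- `sat K` and `K` agree in large degrees. -/
theorem exists_pc_sat [IsNoetherianRing A] {K : Submodule (MvPolynomial σ A) (W σ ι A)} (hK : IsHom K) :
    ∃ D : ℕ, ∀ d, D ≤ d → pc (sat K) d = pc K d := by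
  obtain ⟨D, hD⟩ := Fga.QA4Sat.exists_forall_mem K (sat K) hK (fun z hz => hz)
  exact ⟨D, fun d hd => le_antisymm (fun w hw => ⟨hD d hd w hw.1 hw.2, hw.2⟩) (pc_mono (le_sat K) d)⟩

/-- The graded pieces of a flat `W / K` are flat. -/
theorem flat_piece {K : Submodule (MvPolynomial σ A) (W σ ι A)} (hK : IsHom K) [Module.Flat A (W σ ι A ⧸ K)]
    (d : ℕ) : Module.Flat A (Wd σ ι A d ⧸ (pc K d).submoduleOf (Wd σ ι A d)) := by
  have h0 : Module.Flat A (W σ ι A ⧸ K.restrictScalars A) :=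
    Module.Flat.of_linearEquiv (Submodule.Quotient.restrictScalarsEquiv A K)
  let i : (Wd σ ι A d ⧸ (pc K d).submoduleOf (Wd σ ι A d)) →ₗ[A] (W σ ι A ⧸ K.restrictScalars A) :=
    Submodule.mapQ _ _ (Wd σ ι A d).subtype (fun w hw => hw.1)
  let c : W σ ι A →ₗ[A] Wd σ ι A d := (comp d).codRestrict _ (comp_mem d)
  let r : (W σ ι A ⧸ K.restrictScalars A) →ₗ[A] (Wd σ ι A d ⧸ (pc K d).submoduleOf (Wd σ ι A d)) :=
    Submodule.mapQ _ _ c (fun w hw => ⟨hK w hw d, comp_mem d w⟩)
  refine Module.Flat.of_retract i r ?_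
  refine Submodule.linearMap_qext _ ?_
  ext1 w
  change Submodule.Quotient.mk (c (w : W σ ι A)) = Submodule.Quotient.mk w
  congr 1
  exact Subtype.ext (comp_of_mem w.2)

/-- Flatness of `W / K` after base change. -/
theorem flat_bc {B : Type*} [CommRing B] [Algebra A B] (K : Submodule (MvPolynomial σ A) (W σ ι A))
    (h : Module.Flat B (B ⊗[A] (W σ ι A ⧸ K))) :
    Module.Flat B (W σ ι B ⧸ bc (algebraMap A B) K) := by
  let L := bc (algebraMap A B) K
  let g : (W σ ι A ⧸ K.restrictScalars A) →ₗ[A] (W σ ι B ⧸ L.restrictScalars B) :=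
    Submodule.mapQ (K.restrictScalars A) ((L.restrictScalars B).restrictScalars A) (mapWL σ ι A B)
      (fun w hw => mapW_mem_bc _ hw)
  have hg : IsBaseChange B g := by
    refine Fga.QA4Abs.isBaseChange_quotient (isBaseChange_mapWL (σ := σ) (ι := ι) (A := A) (B := B))
      (K.restrictScalars A) (L.restrictScalars B) ?_ g fun v => rfl
    ext w
    exact mem_bc_iff (algebraMap A B) K w
  let e1 : B ⊗[A] (W σ ι A ⧸ K.restrictScalars A) ≃ₗ[B] B ⊗[A] (W σ ι A ⧸ K) :=
    TensorProduct.AlgebraTensorModule.congr (LinearEquiv.refl B B) (Submodule.Quotient.restrictScalarsEquiv A K)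
  have h1 : Module.Flat B (B ⊗[A] (W σ ι A ⧸ K.restrictScalars A)) := Module.Flat.of_linearEquiv e1
  have h2 : Module.Flat B (W σ ι B ⧸ L.restrictScalars B) := Module.Flat.of_linearEquiv hg.equiv.symm
  exact Module.Flat.of_linearEquiv (Submodule.Quotient.restrictScalarsEquiv B L).symm

/-- The pieces of a base change only depend on the pieces. -/
theorem pc_bc_congr {B : Type*} [CommRing B] (φ : A →+* B) {K K' : Submodule (MvPolynomial σ A) (W σ ι A)}
    (hK : IsHom K) (hK' : IsHom K') {d : ℕ} (h : pc K d = pc K' d) : pc (bc φ K) d = pc (bc φ K') d := by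
  letI := φ.toAlgebra
  rw [← kd_eq_iff] at h ⊢
  have h1 := kd_bc (B := B) hK d
  have h2 := kd_bc (B := B) hK' d
  rw [h] at h1
  exact h1.trans h2.symm

end

section

variable {σ : Type} {ι : Type} {A : Type u} [CommRing A] [Fintype σ] [Finite ι]

/-- The flat case. -/
theorem exists_finset_of_flat [IsNoetherianRing A] {K : Submodule (MvPolynomial σ A) (W σ ι A)} (hK : IsHom K)
    [Module.Flat A (W σ ι A ⧸ K)] :
    ∃ (s : Finset (ℤ → ℤ)) (e₀ : ℕ), (∀ Ψ ∈ s, Num (Fintype.card σ) Ψ) ∧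
      ∀ {k : Type u} [Field k] (φ : A →+* k), ∃ Ψ ∈ s, ∀ d : ℕ, e₀ ≤ d → h (bc φ K) d = Ψ d := by
  classical
  have hpt : IsQuotPt (sat K) := ⟨hK.sat, isSat_sat K, chartFlat_sat (m := 0) hK fun d _ => flat_piece hK d⟩
  obtain ⟨m, hm⟩ := Fga.QA4Fin.exists_bound hpt
  obtain ⟨Φ, hloc, hnum, hall⟩ := Fga.QA4Fin.exists_hilbPoly hpt
  obtain ⟨D, hD⟩ := exists_pc_sat hK
  have hfin : (Set.range Φ).Finite := hloc.range_finite
  obtain ⟨m', hm'⟩ : ∃ m', ∀ p, bd (Fintype.card σ) (Φ p) ≤ m' := by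
    obtain ⟨m', hm'⟩ := (hfin.image (bd (Fintype.card σ))).bddAbove
    exact ⟨m', fun p => hm' ⟨Φ p, ⟨p, rfl⟩, rfl⟩⟩
  refine ⟨hfin.toFinset, max m (max D m'), ?_, ?_⟩
  · intro Ψ hΨ
    obtain ⟨p, rfl⟩ := hfin.mem_toFinset.1 hΨ
    exact hnum p
  · intro k _ φ
    let p : PrimeSpectrum A := ⟨RingHom.ker φ, RingHom.ker_isPrime φ⟩
    refine ⟨Φ p, hfin.mem_toFinset.2 ⟨p, rfl⟩, fun d hd => ?_⟩
    have h1 := ((hall φ p rfl).2 d ((hm' p).trans (by omega))).1
    have h2 := (hm d (by omega)).2.2.2 k φ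
    have h3 := pc_bc_congr φ hK.sat hK (hD d (by omega))
    rw [← h1]
    unfold h
    rw [h2, h3]

/-- Finitely many Hilbert functions in the fibres of `W / K`. -/
theorem exists_finset [IsNoetherianRing A] {K : Submodule (MvPolynomial σ A) (W σ ι A)} (hK : IsHom K) :
    ∃ (s : Finset (ℤ → ℤ)) (e₀ : ℕ), (∀ Ψ ∈ s, Num (Fintype.card σ) Ψ) ∧
      ∀ {k : Type u} [Field k] (φ : A →+* k), ∃ Ψ ∈ s, ∀ d : ℕ, e₀ ≤ d → h (bc φ K) d = Ψ d := by
  classical
  suffices H : ∀ I : Ideal A, ∃ (s : Finset (ℤ → ℤ)) (e₀ : ℕ), (∀ Ψ ∈ s, Num (Fintype.card σ) Ψ) ∧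
      ∀ {k : Type u} [Field k] (φ : A →+* k), I ≤ RingHom.ker φ →
        ∃ Ψ ∈ s, ∀ d : ℕ, e₀ ≤ d → h (bc φ K) d = Ψ d by
    obtain ⟨s, e₀, h1, h2⟩ := H ⊥
    exact ⟨s, e₀, h1, fun φ => h2 φ bot_le⟩
  intro I
  induction I using IsNoetherian.induction with
  | hgt I₀ ih =>
    obtain ⟨I, rfl⟩ : ∃ I : Ideal A, I = I₀ := ⟨I₀, rfl⟩
    by_cases htop : I = ⊤
    · refine ⟨∅, 0, by simp, fun {k} _ φ hφ => ?_⟩
      exfalso
      rw [htop] at hφ
      exact RingHom.ker_ne_top φ (top_le_iff.1 hφ)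
    by_cases hprime : I.IsPrime
    · -- generic freeness over `A / I`
      let B := A ⧸ I
      let KB : Submodule (MvPolynomial σ B) (W σ ι B) := bc (Ideal.Quotient.mk I) K
      have hKB : IsHom KB := hK.bc _
      obtain ⟨f, hf, hfree, -⟩ := S0389.result (R := B) (S := MvPolynomial σ B) (M := W σ ι B ⧸ KB)
      let Bf := Localization.Away f
      let Kf : Submodule (MvPolynomial σ Bf) (W σ ι Bf) := bc (algebraMap B Bf) KB
      have hKf : IsHom Kf := hKB.bc _
      have hflat : Module.Flat Bf (W σ ι Bf ⧸ Kf) := flat_bc KB (Module.Flat.of_free)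
      obtain ⟨s, e₀, hs, hall⟩ := exists_finset_of_flat hKf
      obtain ⟨a, rfl⟩ := Ideal.Quotient.mk_surjective f
      have ha : a ∉ I := fun h => hf (Ideal.Quotient.eq_zero_iff_mem.2 h)
      obtain ⟨s', e₀', hs', hall'⟩ := ih (I ⊔ Ideal.span {a}) (by
        refine lt_of_le_of_ne le_sup_left fun h => ha ?_
        rw [h]
        exact Ideal.mem_sup_right (Ideal.mem_span_singleton_self a))
      refine ⟨s ∪ s', max e₀ e₀', ?_, fun {k} _ φ hφ => ?_⟩
      · intro Ψ hΨ
        rcases Finset.mem_union.1 hΨ with h | h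
        · exact hs Ψ h
        · exact hs' Ψ h
      · by_cases hfa : φ a = 0
        · obtain ⟨Ψ, hΨ, hd⟩ := hall' φ (sup_le hφ (by
            rw [Ideal.span_singleton_le_iff_mem]; exact hfa))
          exact ⟨Ψ, Finset.mem_union_right _ hΨ, fun d hd' => hd d (le_trans (le_max_right _ _) hd')⟩
        · let φB : B →+* k := Ideal.Quotient.lift I φ hφ
          have hu : IsUnit (φB (Ideal.Quotient.mk I a)) := IsUnit.mk0 _ hfa
          let ψ : Bf →+* k := IsLocalization.Away.lift (Ideal.Quotient.mk I a) hu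
          have e1 : ψ.comp ((algebraMap B Bf).comp (Ideal.Quotient.mk I)) = φ := by
            rw [← RingHom.comp_assoc]
            have : ψ.comp (algebraMap B Bf) = φB := IsLocalization.Away.lift_comp _ hu
            rw [this]
            exact Ideal.Quotient.lift_comp_mk I φ hφ
          obtain ⟨Ψ, hΨ, hd⟩ := hall ψ
          refine ⟨Ψ, Finset.mem_union_left _ hΨ, fun d hd' => ?_⟩
          rw [← hd d (le_trans (le_max_left _ _) hd'), ← e1, bc_comp, bc_comp]
    · -- not prime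
      rw [Ideal.isPrime_iff] at hprime
      push Not at hprime
      obtain ⟨x, y, hxy, hx, hy⟩ := hprime htop
      obtain ⟨s, e₀, hs, hall⟩ := ih (I ⊔ Ideal.span {x}) (by
        refine lt_of_le_of_ne le_sup_left fun h => hx ?_
        rw [h]
        exact Ideal.mem_sup_right (Ideal.mem_span_singleton_self x))
      obtain ⟨s', e₀', hs', hall'⟩ := ih (I ⊔ Ideal.span {y}) (by
        refine lt_of_le_of_ne le_sup_left fun h => hy ?_
        rw [h]
        exact Ideal.mem_sup_right (Ideal.mem_span_singleton_self y))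
      refine ⟨s ∪ s', max e₀ e₀', ?_, fun {k} _ φ hφ => ?_⟩
      · intro Ψ hΨ
        rcases Finset.mem_union.1 hΨ with h | h
        · exact hs Ψ h
        · exact hs' Ψ h
      · have hxy' : φ x = 0 ∨ φ y = 0 := by
          have : φ (x * y) = 0 := hφ hxy
          rwa [map_mul, mul_eq_zero] at this
        rcases hxy' with h0 | h0
        · obtain ⟨Ψ, hΨ, hd⟩ := hall φ (sup_le hφ (by rw [Ideal.span_singleton_le_iff_mem]; exact h0))
          exact ⟨Ψ, Finset.mem_union_left _ hΨ, fun d hd' => hd d (le_trans (le_max_left _ _) hd')⟩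
        · obtain ⟨Ψ, hΨ, hd⟩ := hall' φ (sup_le hφ (by rw [Ideal.span_singleton_le_iff_mem]; exact h0))
          exact ⟨Ψ, Finset.mem_union_right _ hΨ, fun d hd' => hd d (le_trans (le_max_right _ _) hd')⟩

end

end K788.HilbFam
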